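import Cfsg.Agent.SympMult.SpSixCoverData

/-! The stabiliser chain of the double cover of Sp6(2) is correct. -/

set_option autoImplicit false
set_option maxHeartbeats 0
set_option maxRecDepth 100000
set_option Elab.async false

namespace Cfsg.Agent.SympMult.SpSix

open Cfsg.Agent.Compute

/-- Permutations of 303 points. -/
noncomputable def rep303 : Rep (Equiv.Perm (Fin 303)) (Fin 303) :=
  permRep 9 303 (Equiv.refl _) (by norm_num) (by norm_num)

/-- The Schreier condition of the top level at one coset. -/
noncomputable def topAt (j : ℕ) : Bool :=
  coverL0.gens.all (fun s =>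
    Nat.blt (coverL0.pos (rep303.act (rep303.mul s (rep303.entry coverL0 j).u) coverL0.base))
      coverL0.size &&
    Nat.beq (rep303.sift [coverL0, coverL1, coverL2, coverL3]
      (rep303.mul s (rep303.entry coverL0 j).u)) rep303.one)

theorem top_a : allBelow 40 (fun i => topAt i) = true := by decide +kernel
theorem top_b : allBelow 40 (fun i => topAt (Nat.add i 40)) = true := by decide +kernel
theorem top_c : allBelow 40 (fun i => topAt (Nat.add i 80)) = true := by decide +kernel
theorem top_d : allBelow 40 (fun i => topAt (Nat.add i 120)) = true := by decide +kernel
theorem top_e : allBelow 40 (fun i => topAt (Nat.add i 160)) = true := by decide +kernel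
theorem top_f : allBelow 40 (fun i => topAt (Nat.add i 200)) = true := by decide +kernel

theorem top_rest : (Nat.blt coverL0.base rep303.n && Nat.blt 0 coverL0.size &&
    coverL0.gens.all rep303.okb &&
    (topGens [coverL1, coverL2, coverL3]).all (fun g =>
      memB g coverL0.gens && Nat.beq (rep303.act g coverL0.base) coverL0.base) &&
    allBelow coverL0.size (rep303.checkEntry coverL0) && Nat.beq coverL0.size 240) = true := by
  decide +kernel

theorem level1_ok : rep303.checkLevel coverL1 [coverL2, coverL3] = true := by decide +kernel
theorem level2_ok : rep303.checkLevel coverL2 [coverL3] = true := by decide +kernel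
theorem level3_ok : rep303.checkLevel coverL3 [] = true := by decide +kernel
theorem cover_size : chainSize coverChain = 2903040 := by decide +kernel

theorem cover_check : rep303.checkChain coverChain = true := by
  have h := top_rest
  simp only [Bool.and_eq_true, Nat.beq_eq] at h
  obtain ⟨h0, hsz⟩ := h
  have hs : allBelow coverL0.size topAt = true := by
    rw [allBelow_eq_true, hsz]
    intro j hj
    have sh : ∀ c, allBelow 40 (fun i => topAt (Nat.add i c)) = true → c ≤ j → j < c + 40 →
        topAt j = true := fun c hc h1 h2 => by
      have := allBelow_eq_true.mp hc (j - c) (by omega)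
      rwa [show Nat.add (j - c) c = j from Nat.sub_add_cancel h1] at this
    by_cases h1 : j < 40
    · exact allBelow_eq_true.mp top_a j h1
    by_cases h2 : j < 80
    · exact sh 40 top_b (by omega) (by omega)
    by_cases h3 : j < 120
    · exact sh 80 top_c (by omega) (by omega)
    by_cases h4 : j < 160
    · exact sh 120 top_d (by omega) (by omega)
    by_cases h5 : j < 200
    · exact sh 160 top_e (by omega) (by omega)
    · exact sh 200 top_f (by omega) (by omega)
  have l0 : rep303.checkLevel coverL0 [coverL1, coverL2, coverL3] = true := by
    rw [Rep.checkLevel, Bool.and_eq_true]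
    refine ⟨?_, hs⟩
    simp only [Bool.and_eq_true]
    exact h0
  show rep303.checkChain [coverL0, coverL1, coverL2, coverL3] = true
  rw [Rep.checkChain_cons, Rep.checkChain_cons, Rep.checkChain_cons, Rep.checkChain_cons, l0,
    level1_ok, level2_ok, level3_ok]
  rfl

end Cfsg.Agent.SympMult.SpSix
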