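import Cfsg.Agent.StemCert.Count
import Cfsg.Agent.StemCert.Packed
import Cfsg.Agent.SympMult.SpSixData

/-! Checks of the multiplier certificate of Sp6(2) on 63 points. -/

set_option autoImplicit false
set_option maxHeartbeats 0
set_option maxRecDepth 100000
set_option Elab.async false

namespace Cfsg.Agent.SympMult.SpSix

open Cfsg.Agent.Compute Cfsg.Agent.StemCert

theorem wf_ok : wfB cert.D = true := by decide +kernel
theorem top_ok : cert.topOK 6 = true := by decide +kernel
theorem rel_ok : allBelow cert.nRel cert.relOK = true := by decide +kernel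
theorem pow_ok : allBelow 6 cert.powOK = true := by decide +kernel
theorem commData_ok : allBelow 6 cert.commOK = true := by decide +kernel
theorem pv_ok : allBelow 6 (cert.pvOK pvs) = true := by decide +kernel
theorem bound_ok : cert.boundP = true := by decide +kernel
theorem lv0_ok : cert.lvP pvs 0 = true := by decide +kernel
theorem lv1_ok : cert.lvP pvs 1 = true := by decide +kernel
theorem lv2_ok : cert.lvP pvs 2 = true := by decide +kernel
theorem lv3_ok : cert.lvP pvs 3 = true := by decide +kernel
theorem lv4_ok : cert.lvP pvs 4 = true := by decide +kernel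
theorem lv5_ok : cert.lvP pvs 5 = true := by decide +kernel
theorem row_ok : allB cert.rowOK cert.rows = true := by decide +kernel
theorem rows_ok : cert.rowsP pvs cert.rows rowVals = true := by decide +kernel
theorem basisP_ok : allBelow cert.dim (cert.basisP rowVals) = true := by decide +kernel
theorem ordP_ok : cert.ordP rowVals = true := by decide +kernel
theorem below_ok : gensBelow 6 cert.D = true := by decide +kernel
theorem blt_ok : allB (fun b => Nat.blt b 63) base = true := by decide +kernel
theorem distinct_ok : distinctB 6 codes cert.D base = true := by decide +kernel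
theorem table_ok : allBelow 6 (cert.tableAt 6 codes base) = true := by decide +kernel
theorem comm_ok : allBelow 6 (cert.commAt 6 codes base) = true := by decide +kernel
theorem shape_ok : cert.D.length = 6 ∧ cert.ord = 2 ∧ 0 < cert.ord ∧ cert.md = 1451520 ∧
    numForms cert.D = 1451520 ∧ 0 < cert.md := by decide +kernel

theorem pvs_ok : ∀ i < cert.D.length, cert.pvOK pvs i = true := fun i hi =>
  allBelow_eq_true.mp pv_ok i (shape_ok.1 ▸ hi)

theorem checked : cert.Checked 6 where
  wf := wf_ok
  top := top_ok
  rel := rel_ok
  pow := pow_ok
  comm := commData_ok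
  lv := fun i hi => by
    rw [shape_ok.1] at hi
    interval_cases i
    all_goals apply lvOK_of_lvP cert shape_ok.2.2.2.2.2 pvs_ok
    exacts [lv0_ok, lv1_ok, lv2_ok, lv3_ok, lv4_ok, lv5_ok]
  row := row_ok
  basis := allBelow_eq_true.mpr fun j hj =>
    basisOK_of_basisP cert bound_ok pvs_ok rows_ok (allBelow_eq_true.mp basisP_ok j hj)
  order := ordOK_of_ordP cert bound_ok pvs_ok rows_ok ordP_ok
  piv_lt := shape_ok.2.2.1

end Cfsg.Agent.SympMult.SpSix
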