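import Cfsg.Agent.Classical.SympGroup
import Cfsg.Agent.SympMult.SpSixChain
import Cfsg.Agent.SympMult.SpSixCheck
import Cfsg.Prelude.Def_KGroupFacts
import Cfsg.Prelude.Def_Classical

/-!
The Schur multiplier of PSp6(2) has order 2: the group acts on the 63 non-zero vectors, where a
certificate bounds every stem extension, and a double cover acts on 240 + 63 points.
-/

set_option autoImplicit false
set_option maxHeartbeats 2000000
set_option maxRecDepth 100000

universe u

namespace Cfsg.Agent.SympMult.SpSix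

open Cfsg Cfsg.Agent.Compute Cfsg.Agent.StemCert Cfsg.Agent.Classical Matrix
open scoped commutatorElement

/-- The alternating form on codes. -/
def bB (x v : ℕ) : Bool :=
  ((x.testBit 3 && v.testBit 0) ^^ (x.testBit 0 && v.testBit 3)) ^^
  (((x.testBit 4 && v.testBit 1) ^^ (x.testBit 1 && v.testBit 4)) ^^
   ((x.testBit 5 && v.testBit 2) ^^ (x.testBit 2 && v.testBit 5)))

/-- A transvection on codes. -/
noncomputable def tvImg (v x : ℕ) : ℕ := Nat.xor x (cond (bB x v) v 0)

/-- A product of transvections on codes. -/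
noncomputable def tvApp (wd : List ℕ) (x : ℕ) : ℕ :=
  List.rec (motive := fun _ => ℕ) x (fun v _ y => tvImg v y) wd

theorem gens_ok : allBelow 6 (fun s => allB (fun v => Nat.blt v 64) (tvWords.getD s []) &&
    allBelow 63 fun p =>
      Nat.beq (tvApp (tvWords.getD s []) (Nat.add p 1)) (Nat.add (getField 6 (codes.getD s 0) p) 1))
      = true := by decide +kernel

theorem cover_codes : allBelow 6 (fun s => memB (lifts.getD s 0) (topGens coverChain) &&
    codePermB 9 303 (lifts.getD s 0) &&
    Nat.beq (compCode 9 303 (lifts.getD s 0) swapCode) (compCode 9 303 swapCode (lifts.getD s 0)) &&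
    Nat.beq (compCode 9 303 (liftInvs.getD s 0) (lifts.getD s 0)) (idCode 9 303) &&
    codePermB 9 303 (liftInvs.getD s 0) &&
    allBelow 303 (fun x => cond (Nat.blt x 240)
      (Nat.blt (getField 9 (lifts.getD s 0) x) 240)
      (Nat.beq (getField 9 (lifts.getD s 0) x)
        (Nat.add 240 (getField 6 (codes.getD s 0) (Nat.sub x 240)))))) = true := by decide +kernel

/-- The code of a product of commutators of lifts. -/
noncomputable def commCode (l : List (ℕ × ℕ)) : ℕ :=
  List.rec (motive := fun _ => ℕ) (idCode 9 303)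
    (fun p _ r => compCode 9 303
      (compCode 9 303 (compCode 9 303 (compCode 9 303 (lifts.getD p.1 0) (lifts.getD p.2 0))
        (liftInvs.getD p.1 0)) (liftInvs.getD p.2 0)) r) l

theorem swap_ok : (codePermB 9 303 swapCode && Nat.beq (commCode swapPairs) swapCode &&
    allB (fun p => Nat.blt p.1 6 && Nat.blt p.2 6) swapPairs &&
    Nat.beq (getField 9 swapCode 0) 1 &&
    allBelow 63 (fun p => Nat.beq (getField 9 swapCode (Nat.add 240 p)) (Nat.add 240 p))) = true := by
  decide +kernel

section Field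

variable {F : Type u} [Field F] [Fintype F] (hF : Fintype.card F = 2)

/-- A bit as a field element. -/
def bitF (F : Type u) [Field F] (b : Bool) : F := cond b 1 0

omit [Fintype F] in
theorem bitF_injective : Function.Injective (bitF F) := by
  intro a b h
  cases a <;> cases b <;> simp [bitF] at h ⊢

omit [Fintype F] in
theorem bitF_and (a b : Bool) : bitF F (a && b) = bitF F a * bitF F b := by
  cases a <;> cases b <;> simp [bitF]

include hF in
theorem two_eq_zero : (1 : F) + 1 = 0 := by
  classical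
  by_contra h
  have : ({0, 1, 1 + 1} : Finset F).card ≤ 2 := hF ▸ Finset.card_le_univ _
  rw [Finset.card_insert_of_notMem, Finset.card_pair] at this
  · omega
  · intro e
    exact one_ne_zero (α := F) (by linear_combination -e)
  · simp [Ne.symm h]

include hF in
theorem bitF_xor (a b : Bool) : bitF F (a ^^ b) = bitF F a + bitF F b := by
  cases a <;> cases b <;> simp [bitF, two_eq_zero hF]

include hF in
theorem neg_eq_self (a : F) : -a = a := by
  have h := two_eq_zero hF
  linear_combination (-a) * h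

/-- The vector of a code. -/
def decode (F : Type u) [Field F] (x : ℕ) : Fin 3 ⊕ Fin 3 → F :=
  Sum.elim (fun i => bitF F (x.testBit i)) (fun i => bitF F (x.testBit (3 + i)))

include hF in
theorem decode_xor (x y : ℕ) : decode F (x ^^^ y) = decode F x + decode F y := by
  funext i
  rcases i with i | i <;> simp [decode, Nat.testBit_xor, bitF_xor hF]

include hF in
theorem sympB_decode (x v : ℕ) : sympB 3 F (decode F x) (decode F v) = bitF F (bB x v) := by
  rw [sympB_eq_sum, Fin.sum_univ_three, bB]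
  simp only [bitF_xor hF, bitF_and, sub_eq_add_neg, neg_eq_self hF, decode, Sum.elim_inl, Sum.elim_inr]
  norm_num
  ring

/-- A transvection of a code. -/
noncomputable def tvec (F : Type u) [Field F] (v : ℕ) : Matrix.symplecticGroup (Fin 3) F :=
  ⟨Cfsg.sympTransvection 3 (decode F v) 1, sympTransvection_mem _ _⟩

include hF in
theorem tvec_mulVec (v x : ℕ) : (tvec F v).1 *ᵥ decode F x = decode F (tvImg v x) := by
  rw [tvec, sympTransvection_mulVec, one_mul, sympB_decode hF, tvImg]
  show _ = decode F (x ^^^ _)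
  rw [decode_xor hF]
  cases bB x v
  · have h0 : decode F 0 = 0 := by funext i; rcases i with i | i <;> simp [decode, bitF]
    simp [bitF, h0]
  · simp [bitF]

include hF in
theorem evalW_mulVec : ∀ (wd : List ℕ) (x : ℕ),
    (evalW (tvec F) wd).1 *ᵥ decode F x = decode F (tvApp wd x)
  | [], x => by simp [evalW, tvApp]
  | v :: wd, x => by
    rw [evalW_cons, Submonoid.coe_mul, ← Matrix.mulVec_mulVec, evalW_mulVec wd x, tvec_mulVec hF]
    rfl

omit [Fintype F] in
theorem decode_injOn {x y : ℕ} (hx : x < 64) (hy : y < 64) (h : decode F x = decode F y) : x = y := by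
  refine Nat.eq_of_testBit_eq fun i => ?_
  rcases Nat.lt_or_ge i 6 with hi | hi
  · rcases Nat.lt_or_ge i 3 with h3 | h3
    · exact bitF_injective (congrFun h (Sum.inl ⟨i, h3⟩))
    · have e := congrFun h (Sum.inr ⟨i - 3, by omega⟩)
      simp only [decode, Sum.elim_inr, show 3 + (i - 3) = i by omega] at e
      exact bitF_injective e
  · have hp : 2 ^ 6 ≤ 2 ^ i := Nat.pow_le_pow_right (by norm_num) hi
    rw [Nat.testBit_lt_two_pow (lt_of_lt_of_le hx hp), Nat.testBit_lt_two_pow (lt_of_lt_of_le hy hp)]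

omit [Fintype F] in
theorem decode_ne_zero {x : ℕ} (hx : x < 64) (h0 : x ≠ 0) : decode F x ≠ 0 := fun h => by
  refine h0 (decode_injOn (F := F) hx (by norm_num) ?_)
  rw [h]
  funext i
  rcases i with i | i <;> simp [decode, bitF]

variable [DecidableEq F]

/-- The numbering of the non-zero vectors. -/
noncomputable def ev : Fin 63 ≃ {v : Fin 3 ⊕ Fin 3 → F // v ≠ 0} :=
  Equiv.ofBijective (fun p => ⟨decode F (p + 1), decode_ne_zero (by omega) (by omega)⟩) (by
    rw [Fintype.bijective_iff_injective_and_card]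
    refine ⟨fun p q h => Fin.ext ?_, ?_⟩
    · have := decode_injOn (F := F) (x := p + 1) (y := q + 1) (by omega) (by omega)
        (congrArg Subtype.val h)
      omega
    · rw [Fintype.card_subtype_compl, Fintype.card_subtype_eq, Fintype.card_fun, Fintype.card_sum,
        hF]
      simp)

theorem mulVec_ne_zero (A : Matrix.symplecticGroup (Fin 3) F) (v : Fin 3 ⊕ Fin 3 → F) :
    A.1 *ᵥ v ≠ 0 ↔ v ≠ 0 := by
  rw [← spLin_apply]
  exact (spLin A).map_ne_zero_iff

/-- The action on non-zero vectors. -/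
noncomputable def actV : Matrix.symplecticGroup (Fin 3) F →* Equiv.Perm {v : Fin 3 ⊕ Fin 3 → F // v ≠ 0} :=
  MonoidHom.mk' (fun A => Equiv.Perm.subtypePerm (spLin A).toEquiv (fun v => mulVec_ne_zero A v))
    (fun A B => Equiv.ext fun v => Subtype.ext (by
      show (A * B).1 *ᵥ v.1 = A.1 *ᵥ (B.1 *ᵥ v.1)
      rw [Submonoid.coe_mul, Matrix.mulVec_mulVec]))

/-- The action on the 63 points. -/
noncomputable def ι : Matrix.symplecticGroup (Fin 3) F →* Equiv.Perm (Fin 63) :=
  ((ev hF).symm.permCongrHom).toMonoidHom.comp actV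

theorem ι_apply (A : Matrix.symplecticGroup (Fin 3) F) (p : Fin 63) :
    decode F ((ι hF A p : ℕ) + 1) = A.1 *ᵥ decode F (p + 1) := by
  show ((ev hF) ((ev hF).symm.permCongr (actV A) p)).1 = _
  rw [Equiv.permCongr_apply, Equiv.symm_symm, Equiv.apply_symm_apply]
  rfl

theorem ι_injective : Function.Injective (ι hF) := by
  intro A B h
  refine Subtype.ext (Matrix.ext_of_mulVec_single fun i => ?_)
  have hne : (Pi.single i 1 : Fin 3 ⊕ Fin 3 → F) ≠ 0 := by simp
  obtain ⟨p, hp⟩ := (ev hF).surjective ⟨_, hne⟩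
  have hp' : decode F ((p : ℕ) + 1) = Pi.single i 1 := congrArg Subtype.val hp
  rw [← hp', ← ι_apply hF, ← ι_apply hF, h]

/-- The generators. -/
noncomputable def g (s : ℕ) : Matrix.symplecticGroup (Fin 3) F :=
  if s < 6 then evalW (tvec F) (tvWords.getD s []) else 1

theorem g_coded : Coded (w := 6) (k := 6) (ι hF) g codes := by
  intro s hs x
  have h := allBelow_eq_true.mp gens_ok s hs
  simp only [Bool.and_eq_true, allBelow_eq_true, Nat.beq_eq] at h
  have e := ι_apply hF (g s) x
  rw [g, if_pos hs, evalW_mulVec hF] at e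
  have he : tvApp (tvWords.getD s []) ((x : ℕ) + 1) = getField 6 (codes.getD s 0) x + 1 := h.2 x x.2
  rw [he] at e
  have hlt : getField 6 (codes.getD s 0) x < 64 := getField_lt _ _ _
  rcases Nat.lt_or_ge (getField 6 (codes.getD s 0) x) 63 with h63 | h63
  · rw [g, if_pos hs]
    have := decode_injOn (F := F) (by omega) (by omega) e
    omega
  · exfalso
    have h64 : getField 6 (codes.getD s 0) x + 1 = 64 := by omega
    rw [h64] at e
    have h0 : decode F 64 = 0 := by
      funext i
      rcases i with i | i <;> fin_cases i <;> simp [decode, bitF, Nat.testBit_eq_decide_div_mod_eq]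
    rw [h0] at e
    exact decode_ne_zero (by omega) (by omega) e

include hF in
theorem card_sp : Nat.card (Matrix.symplecticGroup (Fin 3) F) = 1451520 := by
  rw [card_symplecticGroup hF 3]
  decide

theorem hlt : ∀ b ∈ base, b < 63 := fun b hb => by simpa [Nat.blt_eq] using allB_spec blt_ok b hb

include hF in
theorem g_gen (x : Matrix.symplecticGroup (Fin 3) F) :
    x ∈ Submonoid.closure (g '' {s | s < 6}) :=
  generates_of_card (g_coded hF) wf_ok below_ok hlt distinct_ok
    (shape_ok.2.2.2.2.1.trans (card_sp hF).symm) x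

include hF in
theorem kernel_bound {Γ : Type u} [Group Γ] [Finite Γ] (σ : Γ →* Matrix.symplecticGroup (Fin 3) F)
    (hσ : Cfsg.IsStemExtension σ) :
    ∃ π : Multiplicative (ZMod 2) →* σ.ker, Function.Surjective π := by
  have hcard : numForms cert.D = Nat.card (Matrix.symplecticGroup (Fin 3) F) :=
    shape_ok.2.2.2.2.1.trans (card_sp hF).symm
  have hb := isBase_of_card (g_coded hF) wf_ok below_ok hlt distinct_ok hcard
  have h := kernel_image g checked
    (tableOK_of_check (g_coded hF) hb wf_ok below_ok fun i hi =>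
      allBelow_eq_true.mp table_ok i (shape_ok.1 ▸ hi))
    (faithful_of_distinct (g_coded hF) wf_ok below_ok hlt distinct_ok) (g_gen hF)
    (commProd_of_check (g_coded hF) hb pow_ok below_ok commData_ok comm_ok)
    (by rw [card_sp hF, shape_ok.2.2.2.1]) σ hσ
  rwa [shape_ok.2.1] at h

end Field

section Cover

theorem rep_mul (a b : ℕ) : rep303.mul a b = compCode 9 303 a b := by
  unfold rep303 permRep
  with_reducible rfl

theorem rep_one : rep303.one = idCode 9 303 := by
  unfold rep303 permRep
  with_reducible rfl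

theorem act303 {c : ℕ} (hc : rep303.Ok c) (x : Fin 303) :
    ((rep303.den c x : Fin 303) : ℕ) = getField 9 c x := by
  rw [show x = (Equiv.refl (Fin 303)) x from rfl]
  exact congrArg Fin.val (denPerm_apply (Equiv.refl (Fin 303)) hc x)

attribute [local irreducible] compCode idCode lifts liftInvs swapCode coverChain codes swapPairs

/-- The exchange of the two sheets. -/
noncomputable def tau : Equiv.Perm (Fin 303) := rep303.den swapCode

theorem tau_spec : rep303.Ok swapCode ∧ tau ⟨0, by norm_num⟩ = ⟨1, by norm_num⟩ ∧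
    ∀ p : Fin 303, 240 ≤ (p : ℕ) → tau p = p := by
  have h := swap_ok
  simp only [Bool.and_eq_true, allBelow_eq_true, Nat.beq_eq] at h
  obtain ⟨⟨⟨⟨hok, -⟩, -⟩, h0⟩, hfix⟩ := h
  refine ⟨rep303.okb_sound _ hok, Fin.ext ?_, fun p hp => Fin.ext ?_⟩
  · rw [tau, act303 (rep303.okb_sound _ hok)]
    exact h0
  · rw [tau, act303 (rep303.okb_sound _ hok)]
    have := hfix ((p : ℕ) - 240) (by omega)
    rwa [show Nat.add 240 ((p : ℕ) - 240) = (p : ℕ) from Nat.add_sub_cancel' hp] at this

/-- The permutations preserving the two parts. -/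
def parts : Subgroup (Equiv.Perm (Fin 303)) where
  carrier := {σ | ∀ x : Fin 303, 240 ≤ (σ x : ℕ) ↔ 240 ≤ (x : ℕ)}
  one_mem' := fun x => Iff.rfl
  mul_mem' := fun {a b} ha hb x => (ha (b x)).trans (hb x)
  inv_mem' := fun {a} ha x => by
    have := ha (a⁻¹ x)
    rw [show a (a⁻¹ x) = x from Equiv.apply_symm_apply a x] at this
    exact this.symm

theorem lift_spec {s : ℕ} (hs : s < 6) :
    lifts.getD s 0 ∈ topGens coverChain ∧ rep303.Ok (lifts.getD s 0) ∧
    rep303.den (lifts.getD s 0) ∈ Subgroup.centralizer {tau} ⊓ parts ∧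
    (rep303.Ok (liftInvs.getD s 0) ∧
      rep303.den (liftInvs.getD s 0) = (rep303.den (lifts.getD s 0))⁻¹) ∧
    ∀ x : Fin 303, 240 ≤ (x : ℕ) →
      getField 9 (lifts.getD s 0) x = 240 + getField 6 (codes.getD s 0) ((x : ℕ) - 240) := by
  have h := allBelow_eq_true.mp cover_codes s hs
  simp only [Bool.and_eq_true, allBelow_eq_true, Nat.beq_eq, memB_eq_true] at h
  obtain ⟨⟨⟨⟨⟨hm, hok⟩, hcomm⟩, hinv⟩, hoki⟩, hq⟩ := h
  have ho := rep303.okb_sound _ hok
  have hoi := rep303.okb_sound _ hoki
  have hhi : ∀ x : Fin 303, 240 ≤ (x : ℕ) →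
      getField 9 (lifts.getD s 0) x = 240 + getField 6 (codes.getD s 0) ((x : ℕ) - 240) :=
    fun x hx => by
      have := hq x x.2
      rw [show Nat.blt (x : ℕ) 240 = false by simpa [← Bool.not_eq_true, Nat.blt_eq] using hx,
        cond_false, Nat.beq_eq] at this
      exact this
  refine ⟨hm, ho, ⟨Subgroup.mem_centralizer_iff.mpr ?_, fun x => ?_⟩,
    ⟨hoi, eq_inv_of_mul_eq_one_left ?_⟩, hhi⟩
  · rintro _ rfl
    rw [tau, ← rep303.den_mul _ _ ho tau_spec.1, ← rep303.den_mul _ _ tau_spec.1 ho, rep_mul,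
      rep_mul, hcomm]
  · rw [act303 ho]
    rcases Nat.lt_or_ge (x : ℕ) 240 with hx | hx
    · have := hq x x.2
      rw [show Nat.blt (x : ℕ) 240 = true by simpa [Nat.blt_eq] using hx, cond_true, Nat.blt_eq] at this
      omega
    · rw [hhi x hx]
      omega
  · rw [← rep303.den_mul _ _ hoi ho, rep_mul, hinv, ← rep_one]
    exact rep303.den_one

/-- The double cover. -/
noncomputable def cover : Subgroup (Equiv.Perm (Fin 303)) :=
  Subgroup.closure ((fun s => rep303.den (lifts.getD s 0)) '' {s | s < 6})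

theorem cover_le : cover ≤ Subgroup.centralizer {tau} ⊓ parts := by
  rw [cover, Subgroup.closure_le]
  rintro _ ⟨s, hs, rfl⟩
  exact (lift_spec hs).2.2.1

theorem card_cover_le : Nat.card cover ≤ 2903040 := by
  rw [← cover_size, ← rep303.card_chainGroup coverChain cover_check]
  refine Subgroup.card_le_of_le ?_
  rw [cover, Subgroup.closure_le]
  rintro _ ⟨s, hs, rfl⟩
  exact rep303.den_mem_span (lift_spec hs).1

/-- The lifted generators. -/
noncomputable def lift (s : ℕ) : cover :=
  if hs : s < 6 then ⟨rep303.den (lifts.getD s 0), Subgroup.subset_closure ⟨s, hs, rfl⟩⟩ else 1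

theorem commCode_spec : ∀ l : List (ℕ × ℕ), (∀ p ∈ l, p.1 < 6 ∧ p.2 < 6) →
    rep303.Ok (commCode l) ∧ rep303.den (commCode l) = (commProd lift l : cover)
  | [], _ => by
    rw [show commCode [] = idCode 9 303 from rfl, ← rep_one]
    exact ⟨rep303.ok_one, rep303.den_one⟩
  | p :: l, h => by
    obtain ⟨ha, hb⟩ := h p (by simp)
    obtain ⟨ih1, ih2⟩ := commCode_spec l fun x hx => h x (by simp [hx])
    obtain ⟨-, oa, -, ⟨oai, da⟩, -⟩ := lift_spec ha
    obtain ⟨-, ob, -, ⟨obi, db⟩, -⟩ := lift_spec hb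
    have o1 := rep303.ok_mul _ _ oa ob
    have o2 := rep303.ok_mul _ _ o1 oai
    have o3 := rep303.ok_mul _ _ o2 obi
    have hcc : commCode (p :: l) = rep303.mul (rep303.mul (rep303.mul (rep303.mul (lifts.getD p.1 0)
        (lifts.getD p.2 0)) (liftInvs.getD p.1 0)) (liftInvs.getD p.2 0)) (commCode l) := by
      simp only [rep_mul]
      rfl
    rw [hcc]
    refine ⟨rep303.ok_mul _ _ o3 ih1, ?_⟩
    have hv : ∀ s, (hs : s < 6) → (lift s : Equiv.Perm (Fin 303)) = rep303.den (lifts.getD s 0) :=
      fun s hs => by simp [lift, dif_pos hs]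
    rw [rep303.den_mul _ _ o3 ih1, rep303.den_mul _ _ o2 obi, rep303.den_mul _ _ o1 oai,
      rep303.den_mul _ _ oa ob, da, db, ih2,
      show commProd lift (p :: l) = ⁅lift p.1, lift p.2⁆ * commProd lift l from rfl,
      commutatorElement_def]
    simp only [Subgroup.coe_mul, Subgroup.coe_inv, hv _ ha, hv _ hb]

theorem lift_closure : (⊤ : Subgroup cover) = Subgroup.closure (lift '' {s | s < 6}) := by
  refine le_antisymm ?_ le_top
  rintro ⟨x, hx⟩ -
  have hle : cover ≤ (Subgroup.closure (lift '' {s | s < 6})).map cover.subtype := by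
    conv_lhs => rw [cover]
    rw [Subgroup.closure_le]
    rintro _ ⟨s, hs, rfl⟩
    refine ⟨lift s, Subgroup.subset_closure ⟨s, hs, rfl⟩, ?_⟩
    show (lift s : Equiv.Perm (Fin 303)) = _
    simp only [lift, dif_pos (show s < 6 from hs)]
  obtain ⟨y, hy, hyx⟩ := hle hx
  rwa [show y = ⟨x, hx⟩ from Subtype.ext hyx] at hy

/-- The numbering of the second part. -/
def eHi : Fin 63 ≃ {x : Fin 303 // 240 ≤ (x : ℕ)} where
  toFun i := ⟨⟨240 + i, by omega⟩, Nat.le_add_right _ _⟩
  invFun x := ⟨(x.1 : ℕ) - 240, by omega⟩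
  left_inv i := by ext; simp
  right_inv x := by
    apply Subtype.ext
    apply Fin.ext
    exact Nat.add_sub_cancel' x.2

/-- The action on the second part. -/
noncomputable def fcov : cover →* Equiv.Perm (Fin 63) :=
  (eHi.symm.permCongrHom).toMonoidHom.comp (MonoidHom.mk'
    (fun σ => (σ : Equiv.Perm (Fin 303)).subtypePerm (cover_le σ.2).2) (fun σ τ => rfl))

theorem fcov_apply (σ : cover) (i : Fin 63) :
    ((fcov σ i : Fin 63) : ℕ) =
      ((σ : Equiv.Perm (Fin 303)) ⟨240 + i, by omega⟩ : ℕ) - 240 := rfl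

variable {F : Type u} [Field F] [Fintype F] [DecidableEq F] (hF : Fintype.card F = 2)

theorem fcov_lift {s : ℕ} (hs : s < 6) : fcov (lift s) = ι hF (g s) := by
  obtain ⟨-, ho, -, -, hq⟩ := lift_spec hs
  refine Equiv.ext fun i => Fin.ext ?_
  rw [g_coded hF s hs i, fcov_apply]
  simp only [lift, dif_pos hs]
  rw [act303 ho, hq _ (by simp)]
  simp

theorem fcov_range : fcov.range = (ι hF).range := by
  have hg : Subgroup.closure (g (F := F) '' {s | s < 6}) = ⊤ := by
    rw [eq_top_iff]
    intro x _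
    exact (Submonoid.closure_le.mpr Subgroup.subset_closure :
      Submonoid.closure _ ≤ (Subgroup.closure (g (F := F) '' {s | s < 6})).toSubmonoid) (g_gen hF x)
  rw [MonoidHom.range_eq_map, MonoidHom.range_eq_map, lift_closure, ← hg, MonoidHom.map_closure,
    MonoidHom.map_closure, Set.image_image, Set.image_image]
  exact congrArg _ (Set.image_congr fun s hs => fcov_lift hF hs)

/-- The covering map. -/
noncomputable def proj : cover →* Matrix.symplecticGroup (Fin 3) F :=
  (MonoidHom.ofInjective (ι_injective hF)).symm.toMonoidHom.comp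
    (fcov.codRestrict (ι hF).range fun x => fcov_range hF ▸ MonoidHom.mem_range.mpr ⟨x, rfl⟩)

theorem proj_spec (x : cover) : ι hF (proj hF x) = fcov x :=
  congrArg Subtype.val ((MonoidHom.ofInjective (ι_injective hF)).apply_symm_apply
    (fcov.codRestrict (ι hF).range (fun x => fcov_range hF ▸ MonoidHom.mem_range.mpr ⟨x, rfl⟩) x))

theorem proj_surjective : Function.Surjective (proj hF) := by
  intro y
  obtain ⟨x, hx⟩ := MonoidHom.mem_range.mp (fcov_range hF ▸ MonoidHom.mem_range.mpr ⟨y, rfl⟩ :
    ι hF y ∈ fcov.range)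
  exact ⟨x, ι_injective hF ((proj_spec hF x).trans hx)⟩

include hF in
theorem exists_stem : ∃ (Γ : Type u) (_ : Group Γ) (_ : Finite Γ)
    (σ : Γ →* Matrix.symplecticGroup (Fin 3) F),
    Cfsg.IsStemExtension σ ∧ Nonempty (σ.ker ≃* Multiplicative (ZMod 2)) := by
  have hsw := swap_ok
  simp only [Bool.and_eq_true, allBelow_eq_true, Nat.beq_eq] at hsw
  obtain ⟨⟨⟨⟨-, hcode⟩, hlt'⟩, -⟩, -⟩ := hsw
  obtain ⟨-, hc⟩ := commCode_spec swapPairs fun p hp => by
    simpa [Bool.and_eq_true, Nat.blt_eq] using allB_spec hlt' p hp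
  let z : cover := commProd lift swapPairs
  have hz : (z : Equiv.Perm (Fin 303)) = tau := by rw [← hc, hcode]; rfl
  have hzker : z ∈ (proj hF).ker := by
    rw [MonoidHom.mem_ker]
    apply ι_injective hF
    rw [proj_spec, map_one]
    refine Equiv.ext fun i => Fin.ext ?_
    rw [fcov_apply, hz, tau_spec.2.2 _ (by simp)]
    simp
  have hz1 : z ≠ 1 := fun h => by
    have h1 := tau_spec.2.1
    rw [← hz, h] at h1
    exact absurd (congrArg Fin.val h1) (by simp)
  have hcard : Nat.card (proj hF).ker = 2 := by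
    have h1 := Subgroup.card_mul_index (proj hF).ker
    rw [Subgroup.index_ker, MonoidHom.range_eq_top.mpr (proj_surjective hF), Subgroup.card_top,
      card_sp hF] at h1
    have h2 : 1 < Nat.card (proj hF).ker := by
      rw [Finite.one_lt_card_iff_nontrivial]
      exact ⟨⟨⟨z, hzker⟩, 1, fun h => hz1 (congrArg Subtype.val h)⟩⟩
    have h3 := card_cover_le
    rw [← h1] at h3
    generalize Nat.card (proj hF).ker = c at h2 h3 ⊢
    nlinarith only [h2, h3]
  have hker : (proj hF).ker = Subgroup.zpowers z := by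
    refine (Subgroup.eq_of_le_of_card_ge ((Subgroup.zpowers_le).mpr hzker) ?_).symm
    rw [hcard]
    exact Finite.one_lt_card_iff_nontrivial.mpr
      ⟨⟨⟨z, Subgroup.mem_zpowers z⟩, 1, fun h => hz1 (congrArg Subtype.val h)⟩⟩
  have hcen : z ∈ Subgroup.center cover := Subgroup.mem_center_iff.mpr fun x => Subtype.ext (by
    rw [Subgroup.coe_mul, Subgroup.coe_mul, hz]
    exact (Subgroup.mem_centralizer_iff.mp (cover_le x.2).1 tau rfl).symm)
  have hcomm : z ∈ commutator cover := list_prod_mem fun y hy => by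
    obtain ⟨p, -, rfl⟩ := List.mem_map.mp hy
    exact Subgroup.commutator_mem_commutator (Subgroup.mem_top _) (Subgroup.mem_top _)
  let e : ULift.{u} cover ≃* cover := MulEquiv.ulift
  let σ : ULift.{u} cover →* Matrix.symplecticGroup (Fin 3) F := (proj hF).comp e.toMonoidHom
  have hk : σ.ker = Subgroup.zpowers (e.symm z) := by
    apply Subgroup.map_injective (f := e.toMonoidHom) e.injective
    rw [MonoidHom.map_zpowers]
    have : σ.ker.map e.toMonoidHom = (proj hF).ker := by
      ext y
      simp only [Subgroup.mem_map, MonoidHom.mem_ker, σ, MonoidHom.coe_comp, Function.comp_apply]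
      exact ⟨fun ⟨x, hx, hxy⟩ => hxy ▸ hx, fun hy => ⟨e.symm y, by simpa using hy, by simp⟩⟩
    rw [this, hker]
    simp
  refine ⟨ULift.{u} cover, inferInstance, inferInstance, σ,
    ⟨(proj_surjective hF).comp e.surjective, ?_, ?_⟩, ?_⟩
  · rw [hk, Subgroup.zpowers_le, Subgroup.mem_center_iff]
    intro x
    apply e.injective
    rw [map_mul, map_mul, MulEquiv.apply_symm_apply]
    exact Subgroup.mem_center_iff.mp hcen (e x)
  · rw [hk, Subgroup.zpowers_le]
    have : e.symm z ∈ (commutator cover).map e.symm.toMonoidHom := ⟨z, hcomm, rfl⟩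
    rw [commutator_def, Subgroup.map_commutator,
      Subgroup.map_top_of_surjective _ e.symm.surjective, ← commutator_def] at this
    exact this
  · have h2 : orderOf (e.symm z) = 2 := by
      rw [MulEquiv.orderOf_eq, ← Nat.card_zpowers, ← hker, hcard]
    exact ⟨mulEquivOfPrimeCardEq (p := 2) (by rw [hk, Nat.card_zpowers, h2]) (by simp)⟩

include hF in
theorem multiplier : Cfsg.HasCyclicSchurMultiplier (Cfsg.PSp 3 F) 2 := by
  have hc : Subgroup.center (Matrix.symplecticGroup (Fin 3) F) = ⊥ := by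
    apply Subgroup.eq_bot_of_card_eq
    rw [card_center_symplectic (by norm_num), hF]
    rfl
  let e : Matrix.symplecticGroup (Fin 3) F ≃* Cfsg.PSp 3 F :=
    (QuotientGroup.quotientBot.symm).trans (QuotientGroup.quotientMulEquivOfEq hc.symm)
  have hker : ∀ {Γ : Type u} [Group Γ] {A B : Type u} [Group A] [Group B] (σ : Γ →* A) (f : A ≃* B),
      (f.toMonoidHom.comp σ).ker = σ.ker := fun σ f => by
    ext x; simp [MonoidHom.mem_ker]
  obtain ⟨Γ, i1, i2, σ, ⟨hs1, hs2⟩, ⟨f⟩⟩ := exists_stem hF
  refine ⟨⟨Γ, i1, i2, e.toMonoidHom.comp σ, ⟨e.surjective.comp hs1, (hker σ e).symm ▸ hs2⟩,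
    ⟨(MulEquiv.subgroupCongr (hker σ e)).trans f⟩⟩, fun Δ _ _ τ hτ => ?_⟩
  obtain ⟨π, hπ⟩ := kernel_bound hF (e.symm.toMonoidHom.comp τ)
    ⟨e.symm.surjective.comp hτ.1, (hker τ e.symm).symm ▸ hτ.2⟩
  exact ⟨(MulEquiv.subgroupCongr (hker τ e.symm)).toMonoidHom.comp π,
    (MulEquiv.subgroupCongr (hker τ e.symm)).surjective.comp hπ⟩

end Cover

end Cfsg.Agent.SympMult.SpSix
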